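import Cfsg.Agent.H632.PQ.Sl
import Cfsg.Agent.H996.PQ.RowE8X
import Cfsg.Agent.H632.PQ.DiffE6
import Cfsg.Agent.S1065

/-!
# `E₈`, the orders `5` and `15`: polynomials (helper154, for S4612; made by a program)

The constituents `567` and `a12` of `1_P^G`, `P` of node `6`: their eigenvalues `lam5`, `lam12` are congruent modulo
`Phi 5`; `567` has defect zero for the primes of order `15`. The constituent `84` of node `7`: congruent to the trivial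
character modulo `Phi 15`.
-/

set_option autoImplicit false
set_option maxRecDepth 20000

namespace Cfsg.Agent.H154.PQE8

open Cfsg Cfsg.Lie Cfsg.Agent.H317.PQ Cfsg.Agent.H632.PQ Cfsg.Agent.H632.PQ.Arith Cfsg.Agent.H996.PQ Cfsg.Agent.H996.Eight
  Cfsg.Agent.H996.Eight.Cert Cfsg.Agent.H64.Dl.Sph Cfsg.Agent.H35.ExcIdx

universe u

/-- the eigenvalues of `567` -/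
def lam5L : List (List ℤ) := [[1], [-1, -1, 0, 0, -1, 0, 1, 1, 0, 2, 1, 1, 1, 1], [0, 1, 0, 0, 1, 0, -1, -1, -1, -3, -2, -2, -3, -2, -1, -1, -1], [0, 0, 0, 0, 1, 0, -1, -1, 0, -2, -1, -1, 0, -2, 0, 0, 0, 0, 1], [0, 0, 0, 0, -1, 0, 1, 1, 1, 5, 3, 2, 3, 4, -1, 0, 0, -2, -3, -1, -1, -1], [0, 0, 0, 0, 0, 0, 0, 0, 0, -1, 0, 1, 0, 1, 3, 2, 2, 4, 2, 1, 2, 1, -1, 0, 0, -1], [0, 0, 0, 0, 0, 0, 0, 0, 0, -1, 0, 1, 0, 1, 3, 2, 2, 4, 2, 1, 2, 1, -1, 0, 0, -1], [0, 0, 0, 0, 0, 0, 0, 0, 0, -1, -1, 0, 0, -1, 1, 0, 0, 0, 1], [0, 0, 0, 0, 0, 0, 0, 0, 0, 1, 0, -2, -2, -3, -6, -5, -4, -6, -3, 0, 0, 1, 4, 3, 2, 3, 1], [0, 0, 0, 0, 0, 0, 0, 0, 0, 0, 0, 0, -1, 1, 0, 0, 0, 0, -1], [0, 0, 0, 0, 0, 0, 0, 0, 0, 0, 0, 0, 1, 1, 1, 2, 1, 0, 0,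 -1, -3, -2, -2, -3, -1, 0, 0, 1, 2, 1, 1, 1], [0, 0, 0, 0, 0, 0, 0, 0, 0, 0, 0, 0, 1, -1, 0, 0, 0, -1, 1, 0, -1, 0, 1, 0, 0, 1], [0, 0, 0, 0, 0, 0, 0, 0, 0, 0, 0, 0, 1, -1, 0, 0, 0, -1, 1, 0, -1, 0, 1, 0, 0, 1], [0, 0, 0, 0, 0, 0, 0, 0, 0, 0, 0, 0, -1, 1, 0, 0, 0, 1, -4, -2, -1, -4, -4, -1, -2, -4, 1, 0, 0, 0, 1, -1], [0, 0, 0, 0, 0, 0, 0, 0, 0, 0, 0, 0, 0, 0, 0, 0, 0, 1, 3, 2, 3, 4, 1, 0, 0, -3, -6, -4, -5, -6, -3, -2, -2, 0, 1], [0, 0, 0, 0, 0, 0, 0, 0, 0, 0, 0, 0, 0, 0, 0, 0, 0, 0, 1, 0, 0, 1, 0, -1, 0, 1, -1, 0, 0, 0, -1, 1], [0, 0, 0, 0, 0, 0, 0, 0, 0, 0, 0, 0, 0, 0, 0, 0, 0, 0, 1, 0, 0, 1, 0, -1, 0, 1, -1, 0, 0, 0, -1, 1], [0, 0, 0, 0, 0, 0, 0, 0, 0, 0, 0, 0, 0, 0, 0, 0, 0, 0, -1, 0, 0, -1, 1, 2, 1, 2, 4, 2,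 2, 3, 1, 0, 1, 0, -1], [0, 0, 0, 0, 0, 0, 0, 0, 0, 0, 0, 0, 0, 0, 0, 0, 0, 0, -1, 0, 0, -1, 1, 2, 1, 2, 4, 2, 2, 3, 1, 0, 1, 0, -1], [0, 0, 0, 0, 0, 0, 0, 0, 0, 0, 0, 0, 0, 0, 0, 0, 0, 0, 0, 0, 0, 0, 0, 0, 0, 1, 0, 0, 0, 1, -1, 0, 0, -1, -1], [0, 0, 0, 0, 0, 0, 0, 0, 0, 0, 0, 0, 0, 0, 0, 0, 0, 0, 0, 0, 0, 0, -1, -1, -1, -3, -2, 0, 0, -1, 4, 3, 2, 3, 5, 1, 1, 1, 0, -1], [0, 0, 0, 0, 0, 0, 0, 0, 0, 0, 0, 0, 0, 0, 0, 0, 0, 0, 0, 0, 0, 0, 0, 0, 0, 0, 0, -1, -1, -1, -2, -3, -2, -2, -3, -1, -1, -1, 0, 1, 0, 0, 1], [0, 0, 0, 0, 0, 0, 0, 0, 0, 0, 0, 0, 0, 0, 0, 0, 0, 0, 0, 0, 0, 0, 0, 0, 0, -1, 0, 0, 0, 0, 1, -1], [0, 0, 0, 0, 0, 0, 0, 0, 0, 0, 0, 0, 0, 0, 0, 0, 0, 0, 0, 0, 0, 0, 0, 0, 0, 1, 0, 0, 0, 0, -2, 0, -1, -1, -2,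 0, -1, -1, 0, 1], [0, 0, 0, 0, 0, 0, 0, 0, 0, 0, 0, 0, 0, 0, 0, 0, 0, 0, 0, 0, 0, 0, 0, 0, 0, 0, 0, 0, 0, 0, 1, 1, 1, 1, 2, 0, 1, 1, 0, -1, 0, 0, -1, -1], [0, 0, 0, 0, 0, 0, 0, 0, 0, 0, 0, 0, 0, 0, 0, 0, 0, 0, 0, 0, 0, 0, 0, 0, 0, 0, 0, 0, 0, 0, 0, 0, 0, 0, 0, 0, 0, 0, 0, 0, 0, 0, 0, 1]]

/-- the eigenvalues of `a12` -/
def lam12L : List (List ℤ) := [[1], [-1, -1, 0, 0, -1, -1, 0, 0, -1], [0, 1, 0, 0, 1, 1, 0, 0, 1], [0, 0, 0, 0, 1, 1, 0, 0, 1, 0, 0, 0, 1], [0, 0, 0, 0, -1, -1, 0, 0, -1, 1, 1, 0, 0, 2, 0, 0, 0, 0, -1], [0, 0, 0, 0, 0, 0, 0, 0, 0, -1, -1, 0, -1, -2, 0, 0, -1, 0, 1, 0, 0, 1], [0, 0, 0, 0, 0, 0, 0, 0, 0, -1, -1, 0, -1, -2, 0, 0, -1, 0, 1, 0, 0, 1], [0, 0, 0, 0, 0, 0, 0, 0, 0, 0, -1, 0, 0, -1, 0, 0, 0,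 0, 1], [0, 0, 0, 0, 0, 0, 0, 0, 0, 1, 2, 1, 1, 3, 1, 0, 1, 0, -2, -1, 0, -2, -1], [0, 0, 0, 0, 0, 0, 0, 0, 0, 0, 0, 0, -1], [0, 0, 0, 0, 0, 0, 0, 0, 0, 0, 0, -1, 0, 0, -1, 0, 1, 0, 0, 2, 0, 0, 1, 0, -1, 0, 0, -1], [0, 0, 0, 0, 0, 0, 0, 0, 0, 0, 0, 0, 1, 0, 0, 0, 1, 0, 0, 0, 0, -1], [0, 0, 0, 0, 0, 0, 0, 0, 0, 0, 0, 0, 1, 0, 0, 0, 1, 0, 0, 0, 0, -1], [0, 0, 0, 0, 0, 0, 0, 0, 0, 0, 0, 0, -1, 0, 0, 0, -1, 2, 0, 0, 0, 2, -1, 0, 0, 0, -1], [0, 0, 0, 0, 0, 0, 0, 0, 0, 0, 0, 0, 0, 0, 0, 0, -1, -2, 0, -1, -2, 0, 1, 0, 1, 3, 1, 1, 2, 1], [0, 0, 0, 0, 0, 0, 0, 0, 0, 0, 0, 0, 0, 0, 0, 0, 0, -1, 0, 0, 0, 0, 1, 0, 0, 0, 1], [0, 0, 0, 0, 0, 0, 0, 0, 0, 0, 0, 0, 0, 0, 0, 0, 0, -1, 0, 0, 0, 0, 1, 0, 0, 0, 1], [0, 0, 0, 0, 0, 0, 0,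 0, 0, 0, 0, 0, 0, 0, 0, 0, 0, 1, 0, 0, 1, 0, -1, 0, 0, -2, -1, 0, -1, -1], [0, 0, 0, 0, 0, 0, 0, 0, 0, 0, 0, 0, 0, 0, 0, 0, 0, 1, 0, 0, 1, 0, -1, 0, 0, -2, -1, 0, -1, -1], [0, 0, 0, 0, 0, 0, 0, 0, 0, 0, 0, 0, 0, 0, 0, 0, 0, 0, 0, 0, 1, 0, 0, 0, 0, -1, 0, 0, -1], [0, 0, 0, 0, 0, 0, 0, 0, 0, 0, 0, 0, 0, 0, 0, 0, 0, 0, 0, 0, -1, 0, 0, 0, 0, 2, 0, 0, 1, 1, -1, 0, 0, -1, -1], [0, 0, 0, 0, 0, 0, 0, 0, 0, 0, 0, 0, 0, 0, 0, 0, 0, 0, 0, 0, 0, 0, 0, 0, 0, 0, 0, 0, 0, 0, 1, 0, 0, 1, 1, 0, 0, 1], [0, 0, 0, 0, 0, 0, 0, 0, 0, 0, 0, 0, 0, 0, 0, 0, 0, 0, 0, 0, 0, 0, 0, 0, 0, 0, -1], [0, 0, 0, 0, 0, 0, 0, 0, 0, 0, 0, 0, 0, 0, 0, 0, 0, 0, 0, 0, 0, 0, 0, 0, 0, 0, 1, 0, 0, 0, 1, 0, 0, 1, 1], [0, 0, 0, 0, 0, 0, 0, 0, 0, 0, 0, 0, 0, 0,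 0, 0, 0, 0, 0, 0, 0, 0, 0, 0, 0, 0, 0, 0, 0, 0, -1, 0, 0, -1, -1, 0, 0, -1, -1], [0, 0, 0, 0, 0, 0, 0, 0, 0, 0, 0, 0, 0, 0, 0, 0, 0, 0, 0, 0, 0, 0, 0, 0, 0, 0, 0, 0, 0, 0, 0, 0, 0, 0, 0, 0, 0, 0, 1]]

/-- the quotients of the differences by `Phi 5` -/
def quo5L : List (List ℤ) := [[], [0, 0, 0, 0, 0, 1, 0, 0, 0, 1], [0, 0, 0, 0, 0, -1, 0, 0, -1, -1, 0, 0, -1], [0, 0, 0, 0, 0, -1, 0, 0, 0, -1, 0, 0, 0, -1, 1], [0, 0, 0, 0, 0, 1, 0, 0, 1, 2, -1, 0, 1, 0, -1, 0, 0, -1], [0, 0, 0, 0, 0, 0, 0, 0, 0, 0, 1, 0, 0, 2, 0, 0, 1, 1, -1, 0, 1, -1], [0, 0, 0, 0, 0, 0, 0, 0, 0, 0, 1, 0, 0, 2, 0, 0, 1, 1, -1, 0, 1, -1], [0, 0, 0, 0, 0, 0, 0, 0, 0, -1, 1], [0, 0, 0, 0, 0, 0, 0, 0, 0, 0, -2, -1, 0, -3, -1, 0, -1, -1, 2, 1, -1, 2, 1],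 [0, 0, 0, 0, 0, 0, 0, 0, 0, 0, 0, 0, 0, 1, -1], [0, 0, 0, 0, 0, 0, 0, 0, 0, 0, 0, 1, 0, 0, 1, 0, -1, 0, 0, -2, 0, 0, -1, 0, 1, 0, 0, 1], [0, 0, 0, 0, 0, 0, 0, 0, 0, 0, 0, 0, 0, -1, 1, 0, -1, 0, 1, 0, -1, 1], [0, 0, 0, 0, 0, 0, 0, 0, 0, 0, 0, 0, 0, -1, 1, 0, -1, 0, 1, 0, -1, 1], [0, 0, 0, 0, 0, 0, 0, 0, 0, 0, 0, 0, 0, 1, -1, 0, 1, -2, -2, 1, 1, -4, 1, 0, 0, -1, 2, -1], [0, 0, 0, 0, 0, 0, 0, 0, 0, 0, 0, 0, 0, 0, 0, 0, 1, 2, 0, 0, 2, 0, -2, 0, -1, -3, -1, 0, -2, -1, 1], [0, 0, 0, 0, 0, 0, 0, 0, 0, 0, 0, 0, 0, 0, 0, 0, 0, 1, 0, -1, 0, 1, -1, 0, 0, 1, -2, 1], [0, 0, 0, 0, 0, 0, 0, 0, 0, 0, 0, 0, 0, 0, 0, 0, 0, 1, 0, -1, 0, 1, -1, 0, 0, 1, -2, 1], [0, 0, 0, 0, 0, 0, 0, 0, 0, 0, 0, 0, 0, 0, 0, 0, 0, -1, 0, 1, -1, 0, 2, 0,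 0, 2, 1, -1, 1, 1, -1], [0, 0, 0, 0, 0, 0, 0, 0, 0, 0, 0, 0, 0, 0, 0, 0, 0, -1, 0, 1, -1, 0, 2, 0, 0, 2, 1, -1, 1, 1, -1], [0, 0, 0, 0, 0, 0, 0, 0, 0, 0, 0, 0, 0, 0, 0, 0, 0, 0, 0, 0, -1, 1, 0, 0, 0, 1, -1, 0, 1, 0, -1], [0, 0, 0, 0, 0, 0, 0, 0, 0, 0, 0, 0, 0, 0, 0, 0, 0, 0, 0, 0, 1, -1, -1, 0, 0, -3, 2, 1, -1, -1, 4, 0, 0, 1, 1, -1], [0, 0, 0, 0, 0, 0, 0, 0, 0, 0, 0, 0, 0, 0, 0, 0, 0, 0, 0, 0, 0, 0, 0, 0, 0, 0, 0, -1, 0, 0, -2, 0, 0, -1, -1, 1, 0, -1, 1], [0, 0, 0, 0, 0, 0, 0, 0, 0, 0, 0, 0, 0, 0, 0, 0, 0, 0, 0, 0, 0, 0, 0, 0, 0, -1, 2, -1], [0, 0, 0, 0, 0, 0, 0, 0, 0, 0, 0, 0, 0, 0, 0, 0, 0, 0, 0, 0, 0, 0, 0, 0, 0, 1, -2, 1, 0, 0, -2, 1, 0, -1, -1, 1], [0, 0, 0, 0, 0, 0, 0, 0, 0, 0, 0, 0, 0, 0, 0, 0, 0, 0, 0, 0,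 0, 0, 0, 0, 0, 0, 0, 0, 0, 0, 2, -1, 0, 1, 1, -1, 0, 1, 0, -1], [0, 0, 0, 0, 0, 0, 0, 0, 0, 0, 0, 0, 0, 0, 0, 0, 0, 0, 0, 0, 0, 0, 0, 0, 0, 0, 0, 0, 0, 0, 0, 0, 0, 0, 0, 0, 0, 0, -1, 1]]

/-- the eigenvalues of `567` -/
def lam5 (c : Fin 26) : List ℤ := lam5L.getD c []

/-- the eigenvalues of `a12` -/
def lam12 (c : Fin 26) : List ℤ := lam12L.getD c []

/-- the quotients of the differences by `Phi 5` -/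
def quo5 (c : Fin 26) : List ℤ := quo5L.getD c []

theorem quo5_ok : ∀ c, pEq (pAdd (lam5 c) (pNeg (lam12 c))) (pMul (Phi 5) (quo5 c)) = true := by decide +kernel

/-- the quotients by `Phi 15` for `84` -/
def quo84 (c : Fin 5) : List ℤ := ([[], [-1, -2, -3, -3, -3, -3, -3, -3, -3, -4, -4, -4, -3, -3, -3, -3, -3, -3, -3, -2, -1], [0, 0, 0, 0, 0, 1, 1, 1, 0, 1, 0, 0, -2, -1, -2, -2, -4, -4, -5, -6, -7, -7, -6, -7, -7, -8, -7, -8, -7, -7, -5, -5, -4, -4, -3, -3, -2, -1], [0, 0, 0, 0, 0, 0, 0, 0, 0, 0, 0, 0, 0, -1, -1, -1, 0, 0, 0, 0, 0, 0, -1, 0, 0, 1, 0, 0, -1, -2, -3, -3, -2, -2, -2, -3, -3, -4, -4, -4, -3, -3, -3, -3, -3, -3, -3, -2, -1], [0, 0, 0, 0, 0, 0, 0, 0, 0, 0, 0, 0, 0, 0, 0, 0, 0, 0, 0, 0, 0, 0, 0, 0, 0,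 0, 0, 1, 1, 1, 0, 0, -1, -1, -1, 0, 0, 0, 0, 0, 0, 0, 1, 1, 1, 0, 0, -1, -1, -1]] : List (List ℤ)).getD c []

/-- the eigenvalues of `84` -/
def lam84 (c : Fin 5) : List ℤ := FullE8a.lam 3 c

theorem cls7 : TabE8a.data.t.cls TabE8a.data.t.o = 0 := by decide +kernel

theorem lam84_ok : ∀ c, pEq (pMul (lam84 c) (TabE8a.c3.nu 0)) (pMul (TabE8a.data.kk c) (TabE8a.c3.nu c)) = true := by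
  decide +kernel

theorem quo84_ok : ∀ c, pEq (pAdd (lam84 c) (pNeg (TabE8a.data.kk c))) (pMul (Phi 15) (quo84 c)) = true := by
  decide +kernel

/-- the factors of the order of `E₈(q)` -/
def od : List (ℕ × ℕ) :=
  [(1, 8), (2, 8), (3, 4), (4, 4), (5, 2), (6, 4), (7, 1), (8, 2), (9, 1), (10, 2), (12, 2), (14, 1), (15, 1), (18, 1), (20, 1), (24, 1), (30, 1)]

/-- the degree of `567` -/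
def dn5 : List ℤ := [0, 0, 0, 0, 0, 0, 1, 0, 1, 0, 2, 0, 3, 0, 5, 0, 7, 0, 9, 0, 11, 0, 15, 0, 17, 0, 21, 0, 23, 0, 26, 0, 29, 0, 31, 0, 32, 0, 34, 0, 33, 0, 34, 0, 32, 0, 31, 0, 29, 0, 26, 0, 23, 0, 21, 0, 17, 0, 15, 0, 11, 0, 9, 0, 7, 0, 5, 0, 3, 0, 2, 0, 1, 0, 1]

/-- certificate of defect zero -/
def dz : DzC 1 :=
  ⟨15, 0, [15], [0, 0, 0, 0, 0, 0, 1, 1, 2, 1, 3, 1, 4, 1, 7, 2, 10, 2, 13, 1, 15, 0, 20, 1, 24, 0, 28, -1, 30, -2, 34, -2, 36, -2, 38, -3, 37, -3, 38, -2, 36, -2, 34, -2, 30, -1, 28, 0, 24, 1, 20, 0, 15, 1, 13, 2, 10, 2, 7, 1, 4, 1, 3, 1, 2, 1, 1], [(1, 1, [0, -1, -1, 0, -1, 0, 0, -1], [1]), (2, 1, [0, 1, -1, 0, 1, -2, 2, -1], [1]), (3, 5, [4, -4, 1, 2, -3, 1, 1, -1], [1, 1]), (4, 1, [0, 1, 0, -2, 1,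 1, -1], [1]), (5, 3, [2, -2, 0, 0, 0, 1, -1], [1, 1, 1]), (6, 1, [2, 0, -1, 0, -1, 1, 1, -1], [-1, 1]), (7, 1, [1, -2, 0, 1, -1, 1, 0, -1], [0, 1, 2, 2, 2, 1]), (8, 1, [-2, 1, 2, -1, 1, -2, -2, 2], [3, 2, 0, -2]), (9, 1, [0, 0, 1, -1, 0, 0, -1, 1], [1, 1, 0, 0, 0, -1]), (10, 1, [0, 0, 0, 0, 0, -1, -1], [1, 1, 1]), (12, 1, [1, -1, 0, 0, -1, 0, -1, -1], [0, 1, 2, 1]), (14, 1, [1, -2, -2, -1, -3, -1, -2, -3], [0, 3, 2, 4, 2, 3]), (18, 1, [0, 0, 1, 1, 0, 0, 1, 1], [1, 1, 0, -2, -2, -1]), (20, 1, [1, 0, 1, 0, 0, 1, 0, 1], [0, 0, 0, 0, 0, -1, -1, -1]), (24, 1, [1, -1, 1, 0, 0, 1, -1, 1], [0, 1, 0, 0, 0, -1, 0, -1]), (30, 2, [1, -1, 1, 0, 0, 1, -1, 1], [1, 1, 1, 0, 0, -1, -1, -1])]⟩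

theorem dz_ok {C : Crt 26} (h1 : C.dn = dn5) (h2 : C.den = 1) : dz.ok (polOf C) od = true := by
  have h : dz.ok (polOf (⟨[], fun _ => [], [], dn5, 1⟩ : Crt 26)) od = true := by decide +kernel
  obtain ⟨a, b, c, e, f⟩ := C
  subst h1 h2
  exact h

theorem card_dvd (K : Type u) [Field K] [Fintype K] : ((Nat.card ↥(chevE8.group K) : ℕ) : ℤ) ∣
    ((Fintype.card K : ℕ) : ℤ) ^ 120 * (od.map fun d => evZ (Fintype.card K : ℕ) (Phi d.1) ^ d.2).prod := by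
  have h := S1065.result (F := K) rfl
  obtain ⟨x, hx⟩ : ∃ x, x = Fintype.card K := ⟨_, rfl⟩
  rw [← hx] at h ⊢
  have h1 : 1 ≤ x := by rw [hx]; exact Fintype.card_pos
  have h2 := congrArg (fun n : ℕ => (n : ℤ)) h
  simp only [Nat.cast_mul, Nat.cast_pow, Nat.cast_sub (Nat.one_le_pow _ _ h1), Nat.cast_one] at h2
  rw [h2]
  have e7 : evZ (x : ℤ) (Phi 7) = (x : ℤ) ^ 6 + (x : ℤ) ^ 5 + (x : ℤ) ^ 4 + (x : ℤ) ^ 3 + (x : ℤ) ^ 2 + x + 1 := by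
    show evZ x [1, 1, 1, 1, 1, 1, 1] = _
    simp only [evZ]
    ring
  have e14 : evZ (x : ℤ) (Phi 14) = (x : ℤ) ^ 6 - (x : ℤ) ^ 5 + (x : ℤ) ^ 4 - (x : ℤ) ^ 3 + (x : ℤ) ^ 2 - x + 1 := by
    show evZ x [1, -1, 1, -1, 1, -1, 1] = _
    simp only [evZ]
    ring
  have e15 : evZ (x : ℤ) (Phi 15) =
      (x : ℤ) ^ 8 - (x : ℤ) ^ 7 + (x : ℤ) ^ 5 - (x : ℤ) ^ 4 + (x : ℤ) ^ 3 - x + 1 := by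
    show evZ x [1, -1, 0, 1, -1, 1, 0, -1, 1] = _
    simp only [evZ]
    ring
  have e20 : evZ (x : ℤ) (Phi 20) = (x : ℤ) ^ 8 - (x : ℤ) ^ 6 + (x : ℤ) ^ 4 - (x : ℤ) ^ 2 + 1 := by
    show evZ x [1, 0, -1, 0, 1, 0, -1, 0, 1] = _
    simp only [evZ]
    ring
  have e24 : evZ (x : ℤ) (Phi 24) = (x : ℤ) ^ 8 - (x : ℤ) ^ 4 + 1 := by
    show evZ x [1, 0, 0, 0, -1, 0, 0, 0, 1] = _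
    simp only [evZ]
    ring
  have e30 : evZ (x : ℤ) (Phi 30) =
      (x : ℤ) ^ 8 + (x : ℤ) ^ 7 - (x : ℤ) ^ 5 - (x : ℤ) ^ 4 - (x : ℤ) ^ 3 + x + 1 := by
    show evZ x [1, 1, 0, -1, -1, -1, 0, 1, 1] = _
    simp only [evZ]
    ring
  refine dvd_of_eq ?_
  simp only [od, List.map_cons, List.map_nil, List.prod_cons, List.prod_nil, ev1, ev2, ev3, ev4, ev5, ev6, e7, ev8,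
    ev9, ev10, ev12, e14, e15, ev18, e20, e24, e30]
  ring

end Cfsg.Agent.H154.PQE8
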