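import Cfsg.Agent.H154.PQE8.Asm
import Cfsg.Agent.H154.PQE8.Num
import Cfsg.Agent.H594.PQ.LinkE8
import Cfsg.Agent.H790.PQ.Node6

/-!
# `E₈`: the orders `e` and `f` from a link between a constituent of node `7` and `567` (helper154, for S4612)

`Link C e`: the constituent `C` of node `7` and `567` (node `6`) are in the same `p`-block for `p ∣ Phi e (q)`.
`kill_of_link`: if `C` is in the principal `l`-block for `l ∣ Phi f (q)` and `567` has defect zero for `l`, then the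
principal blocks for `p` and `l` are different.
-/

set_option autoImplicit false
set_option maxRecDepth 20000

namespace Cfsg.Agent.H154.PQE8

open Cfsg Cfsg.Agent.H967.Sph Cfsg.Agent.H317.PQ Cfsg.Agent.Blocks.Basic Cfsg.Agent.Blocks.Local Cfsg.Agent.H64.Dl.Sph
  Cfsg.Agent.H996.Eight Cfsg.Agent.H996.Eight.Cert Cfsg.Agent.H996.PQ Cfsg.Agent.H632.PQ.Arith Cfsg.Agent.H790.PQ
open CoxeterSystem Cfsg.Agent.ChevalleyStructure.CoxeterGeom Cfsg.Agent.Tits.Roots Cfsg.Agent.Tits.Core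
  Cfsg.Agent.Nodes.Reps Cfsg.Agent.Nodes.BNOf Cfsg.Agent.Nodes.Bruhat Cfsg.Agent.Nodes.LeviDec
open Cfsg.Lie Cfsg.Agent.ChevalleyStructure Cfsg.Agent.ChevalleyStructure.CoxeterGeomTypes Cfsg.Agent.Nodes.RGDChev
  Cfsg.Agent.H35.ExcIdx

universe u

/-- the data of node `7`, over the table of node `6` -/
def data7 : Data TabE8c.A 7 240 5 := TabE8a.data

/-- the constituent `C` of node `7` and `567` are in the same `l`-block for odd `l ∣ Phi e (q)` -/
def Link (C : Crt 5) (e : ℕ) : Prop :=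
  ∀ (W : Type) (Y : Type u) [Group W] [Finite W] [Group Y] [Finite Y] (M : CoxeterMatrix (Fin 8))
    (cs : CoxeterSystem M W) (h : IsCartan M TabE8c.A) (p : ℕ) (T : Subgroup Y) (n : Fin 8 → Y)
    (X : (Fin 8 → ℤ) → Subgroup Y) (R : RGD cs h p T n X) (hG : GG cs h T X = ⊤) (x : ℕ), 2 ≤ x →
    (∀ i, Nat.card (X (sr i)) = x) → ∀ (χ χ' : Y → ℂ) (d d' : ℕ),
    HasVal R hG H594.PQ.tabP χ d (fun c => ev x (C.nu c) / ev x (C.nu 0)) →
    HasVal R hG TabE8c.data.t χ' d' (fun c => ev x (E567.C.nu c) / ev x (E567.C.nu 0)) →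
    ∀ l : ℕ, l.Prime → l ≠ 2 → (l : ℤ) ∣ evZ x (Phi e) → ∀ M' : Ideal AlgInt, IsPModular l M' → SameBlock M' χ χ'

theorem not_same_E8 {W : Type} {Y : Type u} [Group W] [Finite W] [Group Y] [Finite Y]
    {M : CoxeterMatrix (Fin 8)} {cs : CoxeterSystem M W} {A : Fin 8 → Fin 8 → ℤ} {h : IsCartan M A} {p : ℕ}
    {T : Subgroup Y} {n : Fin 8 → Y} {X : (Fin 8 → ℤ) → Subgroup Y}
    (R : RGD cs h p T n X) (hG : GG cs h T X = ⊤) (hA : A = TabE8c.A) {x : ℕ} (hx : 2 ≤ x)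
    (hq : ∀ i, Nat.card (X (sr i)) = x) {e f : ℕ}
    (hem : e ∈ [2, 3, 4, 5, 6, 7, 8, 9, 10, 12, 14, 15, 18, 20, 24, 30])
    (hfm : f ∈ [2, 3, 4, 5, 6, 7, 8, 9, 10, 12, 14, 15, 18, 20, 24, 30])
    (C : Crt 5) (hC : ok1 C 0 TabE8a.data.bb TabE8a.data.kk) (hU : Uq C.th C.nu 0 TabE8a.data.bb)
    (hD : pDvd C.den C.dn) {lam quo : Fin 5 → List ℤ}
    (hlam : ∀ c, pEq (pMul (lam c) (C.nu 0)) (pMul (TabE8a.data.kk c) (C.nu c)) = true)
    (hquo : ∀ c, pEq (pAdd (lam c) (pNeg (TabE8a.data.kk c))) (pMul (Phi f) (quo c)) = true)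
    {dz : DzC 1} (hdz : dz.ok (polOf E567.C) od = true) (hdf : dz.e = f) (hL : Link.{u} C e)
    {p' l' : ℕ} (hp : p'.Prime) (hl : l'.Prime) (hp2 : p' ≠ 2) (hl2 : l' ≠ 2)
    (he : ord x p' = e) (hf : ord x l' = f) (hlY : l' ∣ Nat.card Y)
    (hgd : ((Nat.card Y : ℕ) : ℤ) ∣ (x : ℤ) ^ 120 * (od.map fun d => evZ x (Phi d.1) ^ d.2).prod) :
    ¬ Same p' l' Y := by
  subst hA
  have hdz' : (Nat.card Y).factorization l' ≤ (val E567.C.den E567.C.dn x).factorization l' := by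
    have hdeg : ∀ i, ((polOf E567.C).den i : ℤ) * ((polOf E567.C).deg x i : ℤ) = evZ x ((polOf E567.C).dn i) := by
      intro i
      have h1 := val_spec E567.ok.2.2.2.2 E567.dvd E567.ok.2.1 hx
      have h2 := evZ_cast (x : ℤ) E567.C.dn
      push_cast at h2
      rw [← h2] at h1
      exact_mod_cast h1
    exact DzC.spec hdz hx hdeg Nat.card_pos.ne' hgd hl hl2 (hf.trans hdf.symm)
  refine not_same R hG data7 TabE8c.data hx (fun i => ?_) (fun i => ?_) cls7 H594.PQ.cls_o C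
    hC hU hD E567.C E567.ok E567.uq E567.dvd hlam hp hl (fun c => ?_) hlY hdz' ?_
  · have h9 : ∀ i, TabE8a.data.e i = 1 := by decide +kernel
    rw [hq, show data7.e i = 1 from h9 i, pow_one]
  · rw [hq, H594.PQ.e_eq, pow_one]
  · have h1 := evZ_of_pEq (x : ℤ) (hquo c)
    rw [evZ_pAdd, evZ_pNeg, evZ_pMul] at h1
    rw [sub_eq_add_neg]
    show (l' : ℤ) ∣ evZ x (lam c) + -evZ x (TabE8a.data.kk c)
    rw [h1]
    exact (dvd_Phi hl hf hfm).mul_right _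
  · intro χ χ' H H' M' hM
    exact hL W Y M cs h p T n X R hG x hx hq χ χ' _ _ H H' p' hp hp2 (dvd_Phi hp he hem) M' hM

/-- **Type `E₈`, the orders `e` and `f`**, from a link. -/
theorem kill_of_link (K : Type u) [Field K] [Fintype K] {e f : ℕ}
    (hem : e ∈ [2, 3, 4, 5, 6, 7, 8, 9, 10, 12, 14, 15, 18, 20, 24, 30])
    (hfm : f ∈ [2, 3, 4, 5, 6, 7, 8, 9, 10, 12, 14, 15, 18, 20, 24, 30])
    (C : Crt 5) (hC : ok1 C 0 TabE8a.data.bb TabE8a.data.kk) (hU : Uq C.th C.nu 0 TabE8a.data.bb)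
    (hD : pDvd C.den C.dn) {lam quo : Fin 5 → List ℤ}
    (hlam : ∀ c, pEq (pMul (lam c) (C.nu 0)) (pMul (TabE8a.data.kk c) (C.nu c)) = true)
    (hquo : ∀ c, pEq (pAdd (lam c) (pNeg (TabE8a.data.kk c))) (pMul (Phi f) (quo c)) = true)
    {dz : DzC 1} (hdz : dz.ok (polOf E567.C) od = true) (hdf : dz.e = f) (hL : Link.{u} C e) :
    Kill ↥(chevE8.group K) (Fintype.card K) e f := by
  intro p' l' hp' hl' hp2 hl2 _ _ hlG he' hf'
  obtain ⟨r, hr⟩ := CharP.exists K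
  have : Fact r.Prime := ⟨CharP.char_is_prime K r⟩
  have := finite_W hpE8 CoxeterMatrix.E₈.toCoxeterSystem
  have := finite_group chevE8 K
  have hA : cartanOf chevE8 8 = TabE8c.A := by
    funext i k
    revert i k
    decide +kernel
  exact not_same_E8 (rgd (K := K) hpE8 CoxeterMatrix.E₈.toCoxeterSystem r)
    (GG_eq_top hpE8 K CoxeterMatrix.E₈.toCoxeterSystem) hA Fintype.one_lt_card
    (fun i => by rw [card_XX hpE8 K CoxeterMatrix.E₈.toCoxeterSystem (isRoot_sr _ _ i), Nat.card_eq_fintype_card])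
    hem hfm C hC hU hD hlam hquo hdz hdf hL hp' hl' hp2 hl2 he' hf' hlG (card_dvd K)

end Cfsg.Agent.H154.PQE8
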