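import Cfsg.Agent.H154.PQE8.Gen
import Cfsg.Agent.H594.PQ.LinkE8z
import Cfsg.Agent.H790.PQ.Lam6

/-!
# `E₈`, the orders `4`, `12` and `8`, `24` (helper154, for S4612)

`35` (node `7`) is in the principal `l`-block for `l ∣ Phi 12 (q)`, `Phi 24 (q)`, and `567` (node `6`) has defect zero for
`l`; `35`, `567` are in the same `p`-block for odd `p ∣ Phi 4 (q)`, `Phi 8 (q)` (helper739, helper594).
-/

set_option autoImplicit false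
set_option maxRecDepth 20000

namespace Cfsg.Agent.H154.PQE8

open Cfsg Cfsg.Lie Cfsg.Agent.H317.PQ Cfsg.Agent.H996.Eight Cfsg.Agent.H996.Eight.Cert Cfsg.Agent.H996.PQ
  Cfsg.Agent.H632.PQ.Arith Cfsg.Agent.H790.PQ Cfsg.Agent.H64.Dl.Sph

universe u

/-- the eigenvalues of `35` -/
def lam35 (c : Fin 5) : List ℤ := FullE8a.lam 2 c

/-- the quotients by `Phi 12` -/
def quoA (c : Fin 5) : List ℤ := ([[], [-1, -1, -2, -2, -2, -3, -2, -3, -2, -2, -2, -1, -2, -1, -2, -2, -2, -3, -2, -3, -2, -2, -2, -1, -1], [0, 0, 0, 0, 0, 1, 0, 1, 0, 0, -1, -2, -3, -4, -5, -5, -6, -5, -6, -5, -5, -5, -5, -6, -6, -7, -7, -7, -7, -7, -6, -6, -5, -5, -4, -4, -3, -3, -2, -2, -1, -1], [0, 0, 0, 0, 0, 0, 0, 0, 0, 0, 0, 0, 0, 0, 1, 1, 2, 2, 2, 2, 1, 1, 0, 0, -1, -1, -1, -1, -1, -1, -1, -1, -1, -2, -2, -3, -3, -3, -4, -3, -4, -3,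 -3, -3, -2, -3, -2, -3, -2, -2, -2, -1, -1], [0, 0, 0, 0, 0, 0, 0, 0, 0, 0, 0, 0, 0, 0, 0, 0, 0, 0, 0, 0, 0, 0, 0, 0, 0, 0, 0, 0, 0, 0, 0, 0, 0, 1, 0, 1, 0, 0, 0, -1, 0, -1, 0, 0, 0, 1, 0, 1, 0, 0, 0, -1, 0, -1]] : List (List ℤ)).getD c []

/-- the quotients by `Phi 24` -/
def quoB (c : Fin 5) : List ℤ := ([[], [-1, -1, -1, -1, -2, -3, -3, -3, -3, -4, -4, -4, -3, -3, -3, -3, -2, -1, -1, -1, -1], [0, 0, 0, 0, 0, 1, 0, 0, 0, 1, -1, -1, -2, -2, -4, -4, -6, -7, -8, -8, -9, -10, -10, -10, -9, -9, -8, -8, -6, -6, -4, -4, -3, -3, -1, -1, -1, -1], [0, 0, 0, 0, 0, 0, 0, 0, 0, 0, 0, 0, 0, 0, 1, 1, 1, 1, 2, 2, 2, 2, 2, 2, 1, 1, 0, 0, -2, -2, -3, -3, -4, -5, -5, -5, -4, -5, -5, -5, -3, -3, -3, -3, -2, -1, -1, -1, -1], [0, 0, 0, 0, 0, 0, 0, 0, 0, 0, 0, 0, 0, 0, 0, 0, 0, 0, 0, 0, 0, 0, 0, 0, 0, 0, 0, 0, 0, 0, 0,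 0, 0, 1, 0, 0, 0, 1, 0, 0, 0, 0, 0, 0, 0, -1, 0, 0, 0, -1]] : List (List ℤ)).getD c []

theorem lam35_ok : ∀ c, pEq (pMul (lam35 c) (TabE8a.c2.nu 0)) (pMul (TabE8a.data.kk c) (TabE8a.c2.nu c)) = true := by
  decide +kernel

theorem quoA_ok : ∀ c, pEq (pAdd (lam35 c) (pNeg (TabE8a.data.kk c))) (pMul (Phi 12) (quoA c)) = true := by
  decide +kernel

theorem quoB_ok : ∀ c, pEq (pAdd (lam35 c) (pNeg (TabE8a.data.kk c))) (pMul (Phi 24) (quoB c)) = true := by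
  decide +kernel

/-- certificate of defect zero, order `12` -/
def dzA : DzC 1 :=
  ⟨12, 0, [12], [0, 0, 0, 0, 0, 0, 1, 0, 3, 0, 5, 0, 6, 0, 7, 0, 10, 0, 15, 0, 19, 0, 21, 0, 22, 0, 25, 0, 30, 0, 34, 0, 35, 0, 34, 0, 33, 0, 34, 0, 35, 0, 34, 0, 30, 0, 25, 0, 22, 0, 21, 0, 19, 0, 15, 0, 10, 0, 7, 0, 6, 0, 5, 0, 3, 0, 1], [(1, 1, [0, 0, -1, -1], [1]), (2, 1, [0, 0, 1, -1], [1]), (3, 2, [2, -1, -1, 1], [0, -1]), (4, 3, [2, 0, -1], [1]), (5, 1, [2, -1, -2, 2], [-1, -1, 0, -2]), (6, 2, [2, 1, -1, -1], [0, 1]), (7, 1, [-1, 0, 2, -2], [2, 1, 1, 2, 0, 2]), (8, 1, [1, 0, -1], [0, 0, 1]), (9, 1, [0, 0, 0, -1], [1, 0, 1, 1, 0, 1]), (10, 1, [2, 1, -2, -2], [-1, 1, 0, 2]), (14, 1, [-1, 0, 2, 2], [2, -1, 1, -2, 0, -2]), (15, 1, [0, 1, 2, 1], [1, -1, 0, 0, -1, 0, -1, -1]), (18, 1, [0, 0, 0, 1], [1, 0, 1, -1, 0, -1]),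 (20, 1, [0, 0, 1], [1, 0, 0, 0, 0, 0, -1]), (24, 2, [0, 0, 1], [2, 0, 1, 0, -1, 0, -1]), (30, 1, [0, -1, 2, -1], [1, 1, 0, 0, -1, 0, -1, 1])]⟩

/-- certificate of defect zero, order `24` -/
def dzB : DzC 1 :=
  ⟨24, 0, [24], [0, 0, 0, 0, 0, 0, 1, 0, 1, 0, 3, 0, 4, 0, 7, 0, 10, 0, 13, 0, 17, 0, 21, 0, 24, 0, 29, 0, 30, 0, 34, 0, 35, 0, 36, 0, 37, 0, 36, 0, 35, 0, 34, 0, 30, 0, 29, 0, 24, 0, 21, 0, 17, 0, 13, 0, 10, 0, 7, 0, 4, 0, 3, 0, 1, 0, 1], [(1, 1, [0, 0, 0, 0, -1, -1, -1, -1], [1]), (2, 1, [0, 0, 0, 0, 1, -1, 1, -1], [1]), (3, 2, [1, -2, 1, 1, -1, 1, 0, -1], [1, 1]), (4, 1, [0, 0, 0, 0, 1, 0, -1], [1]), (5, 1, [2, 0, -1, -1, -1, 1, 1], [-1, -2, -1]), (6, 2, [1, 2, 1, -1, -1, -1, 0, 1], [1, -1]), (7, 1, [1, 1, -1, -1, 1, -1, -1, 2], [0, -2, -1, 0, -1, -2]), (8, 3, [2, 0, 0, 0, -1], [1]), (9, 1,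 [1, -1, 0, 0, 0, 1, -1], [0, 1, 0, -1, 1]), (10, 1, [2, 0, -1, 1, -1, -1, 1], [-1, 2, -1]), (12, 2, [2, 0, 1, 0, -1, 0, -1], [0, 0, 1]), (14, 1, [1, -1, -1, 1, 1, 1, -1, -2], [0, 2, -1, 0, -1, 2]), (15, 1, [0, 1, 0, 0, 0, -1, 0, -1], [1, -1, 1, 0, 0, 1, -1, 1]), (18, 1, [1, 1, 0, 0, 0, -1, -1], [0, -1, 0, 1, 1]), (20, 1, [2, 0, 1, 0, -2, 0, -2], [-1, 0, 1, 0, 0, 0, 2]), (30, 1, [0, -1, 0, 0, 0, 1, 0, 1], [1, 1, 1, 0, 0, -1, -1, -1])]⟩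

theorem dzA_ok : dzA.ok (polOf E567.C) od = true := by decide +kernel

theorem dzB_ok : dzB.ok (polOf E567.C) od = true := by decide +kernel

theorem linkA : Link.{u} TabE8a.c2 4 := by
  intro W Y _ _ _ _ M cs h p T n X R hG x hx hq χ χ' d d' H H' l hl hl2 hd M' hM
  have hx' : (2 : ℚ) ≤ (x : ℚ) := by exact_mod_cast hx
  have hnu : ev (x : ℚ) (TabE8a.c2.nu 0) ≠ 0 := (ev_pos hx' (ok1_of_ok TabE8a.ok2).1).ne'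
  exact H594.PQ.same_35_567_four R hG hx hq H (inv_ne_zero hnu) (fun c => by rw [div_eq_inv_mul]) H'
    (fun c => Node6.kk_567 hx c) hl hl2 hd hM

theorem linkB : Link.{u} TabE8a.c2 8 := by
  intro W Y _ _ _ _ M cs h p T n X R hG x hx hq χ χ' d d' H H' l hl hl2 hd M' hM
  have hx' : (2 : ℚ) ≤ (x : ℚ) := by exact_mod_cast hx
  have hnu : ev (x : ℚ) (TabE8a.c2.nu 0) ≠ 0 := (ev_pos hx' (ok1_of_ok TabE8a.ok2).1).ne'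
  exact H594.PQ.same_35_567_eight R hG hx hq H (inv_ne_zero hnu) (fun c => by rw [div_eq_inv_mul]) H'
    (fun c => Node6.kk_567 hx c) hl hl2 hd hM

/-- **Type `E₈`, the orders `4` and `12`.** -/
theorem kill_E8_412 (K : Type u) [Field K] [Fintype K] : Kill ↥(chevE8.group K) (Fintype.card K) 4 12 :=
  kill_of_link K (by decide) (by decide) TabE8a.c2 (ok1_of_ok TabE8a.ok2) (uq_of_ok TabE8a.ok2) TabE8a.dvd2 lam35_ok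
    quoA_ok dzA_ok rfl linkA

/-- **Type `E₈`, the orders `8` and `24`.** -/
theorem kill_E8_824 (K : Type u) [Field K] [Fintype K] : Kill ↥(chevE8.group K) (Fintype.card K) 8 24 :=
  kill_of_link K (by decide) (by decide) TabE8a.c2 (ok1_of_ok TabE8a.ok2) (uq_of_ok TabE8a.ok2) TabE8a.dvd2 lam35_ok
    quoB_ok dzB_ok rfl linkB

end Cfsg.Agent.H154.PQE8
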